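import Cfsg.Agent.Fusion.Layer.Quasi
import Cfsg.Agent.Fusion.Meet.Main

/-!
The layer exists.
-/

set_option autoImplicit false
set_option linter.unusedSectionVars false
set_option linter.style.haveILetI false

namespace Cfsg.Lib.Fusion.Layer

open Cfsg Cfsg.FusionSystem Cfsg.Lib.Fusion

universe u

variable {Ω : Type u} [Group Ω] {S T U : Subgroup Ω} {F : FusionSystem S} {p : ℕ}

/-- A saturated system is normal in itself. -/
theorem isNormalIn_self [Finite S] (hF : F.IsSaturated p) : F.IsNormalIn F p := by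
  refine ⟨isWeaklyNormalIn_self hF, fun α hα => ?_⟩
  have key : ∀ (X : Subgroup Ω), X = S → ∀ hle : S ≤ X, ∃ β ∈ F.autGroup X,
      (∀ x : S, ((β (Subgroup.inclusion hle x) : X) : Ω) = ((α x : S) : Ω)) ∧
      ∀ c : X, (c : Ω) ∈ centralizerIn S S →
        (c : Ω)⁻¹ * ((β c : X) : Ω) ∈ S ⊓ Subgroup.centralizer (S : Set Ω) := by
    rintro X rfl hle
    refine ⟨α, hα, fun x => rfl, fun c hc => ?_⟩
    refine Subgroup.mul_mem _ (Subgroup.inv_mem _ hc) ?_
    rw [← autFun_apply α c]
    have := ((isMap_autFun le_rfl).mpr hα).mem_centralizerIn le_rfl c.2 hc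
    rwa [img_autFun] at this
  exact key _ (le_antisymm (sup_le le_rfl inf_le_left) le_sup_left) le_sup_left

/-- A component over a subgroup of a normal subsystem lies in that subsystem. -/
theorem component_le {U : Subgroup Ω} {C : FusionSystem U} {S : Subgroup Ω} {F : FusionSystem S}
    (hC : C.IsSubnormalIn F p) :
    C.Quasisimple p → p.Prime → Finite S → IsPGroup p S → ∀ {T : Subgroup Ω} {D : FusionSystem T},
      D.IsNormalIn F p → U ≤ T → C.IsSubsystemOf D := by
  induction hC with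
  | @refl F p =>
    intro hq hp hfin hS T D hD hST
    haveI := hfin
    haveI : Fact p.Prime := ⟨hp⟩
    cases le_antisymm hD.1.2.2.2.1.1 hST
    exact le_of_quasisimple hS hq hD.1
  | @step V S C G F p hCG hG ih =>
    intro hq hp hfin hS T D hD hUT
    haveI := hfin
    haveI : Fact p.Prime := ⟨hp⟩
    have hVS := hG.1.2.2.2.1.1
    haveI := finite_of_le hVS
    have hVp : IsPGroup p V := hS.of_injective _ (Subgroup.inclusion_injective hVS)
    obtain ⟨N, ⟨-, hNG, hND⟩, -⟩ := Meet.exists_meet hS hG hD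
    exact fun P => (ih hq hp inferInstance hVp hNG (le_inf (subnormal_le hCG) hUT) P).trans
      (hND.1.2.2.1 P)

theorem le_of_isSubsystemOf {C : FusionSystem U} {E : FusionSystem T} (h : C.IsSubsystemOf E) :
    U ≤ T := by
  obtain ⟨φ, hφ, -⟩ := isMap_id (F := C) (le_refl U)
  exact (E.le_of_mem (h U hφ)).1

variable [Finite S] [Fact p.Prime]

/-- The set of maps of a subsystem. -/
def maps {T : Subgroup Ω} (D : FusionSystem T) : Set (Σ P : Subgroup Ω, (P →* Ω)) :=
  {x | x.2 ∈ D.Hom x.1}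

theorem maps_finite : (maps F).Finite := by
  haveI : Finite {P : Subgroup Ω | P ≤ S} := finite_subgroups_le
  haveI : ∀ P : {P : Subgroup Ω | P ≤ S}, Finite (↥(P : Subgroup Ω) → S) := fun P => by
    haveI := finite_of_le P.2
    infer_instance
  let f : maps F → Σ P : {P : Subgroup Ω | P ≤ S}, (↥(P : Subgroup Ω) → S) := fun x =>
    ⟨⟨x.1.1, (F.le_of_mem x.2).1⟩, fun y => ⟨x.1.2 y, (F.le_of_mem x.2).2 y⟩⟩
  refine Set.finite_coe_iff.mp (Finite.of_injective f fun x y h => ?_)
  obtain ⟨⟨P, φ⟩, hx⟩ := x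
  obtain ⟨⟨Q, ψ⟩, hy⟩ := y
  simp only [f, Sigma.mk.injEq, Subtype.mk.injEq] at h
  obtain ⟨rfl, h⟩ := h
  have : φ = ψ := MonoidHom.ext fun z => congrArg Subtype.val (congrFun (eq_of_heq h) z)
  subst this
  rfl

/-- The layer exists. -/
theorem exists_layer (hS : IsPGroup p S) (hF : F.IsSaturated p) :
    ∃ (T : Subgroup Ω) (E : FusionSystem T), E.IsLayerOf F p := by
  classical
  let good : ℕ → Prop := fun n => ∃ (T : Subgroup Ω) (D : FusionSystem T), D.IsNormalIn F p ∧
    (∀ (U : Subgroup Ω) (C : FusionSystem U), C.IsComponentIn F p → C.IsSubsystemOf D) ∧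
    (maps D).ncard = n
  have hself := isNormalIn_self hF
  have hex : ∃ n, good n := ⟨_, S, F, hself, fun U C hC => component_le hC.1 hC.2 Fact.out
    inferInstance hS hself (subnormal_le hC.1), rfl⟩
  obtain ⟨T, E, hE, hEc, hn⟩ := Nat.find_spec hex
  refine ⟨T, E, hE, hEc, fun R D hD hDc => ?_⟩
  obtain ⟨M, ⟨hM, hME, hMD⟩, -⟩ := Meet.exists_meet hS hE hD
  have hMc : ∀ (U : Subgroup Ω) (C : FusionSystem U), C.IsComponentIn F p → C.IsSubsystemOf M :=
    fun U C hC => component_le hC.1 hC.2 Fact.out inferInstance hS hM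
      (le_inf (le_of_isSubsystemOf (hEc U C hC)) (le_of_isSubsystemOf (hDc U C hC)))
  have hTS := hE.1.2.2.2.1.1
  haveI := finite_of_le hTS
  have hsub : maps M ⊆ maps E := fun x hx => hME.1.2.2.1 x.1 hx
  have hmin : (maps E).ncard ≤ (maps M).ncard := by
    rw [hn]
    exact Nat.find_le ⟨_, M, hM, hMc, rfl⟩
  have heq := Set.eq_of_subset_of_ncard_le hsub hmin maps_finite
  intro P φ hφ
  exact hMD.1.2.2.1 P (heq.ge (show (⟨P, φ⟩ : Σ P : Subgroup Ω, (P →* Ω)) ∈ maps E from hφ))

end Cfsg.Lib.Fusion.Layer
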