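import Cfsg.Agent.Fusion.ComponentExistence
import Cfsg.Agent.Fusion.InvarianceEquiv

/-!
A quasisimple system has no proper weakly normal subsystem on the whole group.
-/

set_option autoImplicit false
set_option linter.unusedSectionVars false
set_option linter.style.haveILetI false

namespace Cfsg.Lib.Fusion.Layer

open Cfsg Cfsg.FusionSystem Cfsg.Lib.Fusion

universe u

variable {Ω : Type u} [Group Ω] {S : Subgroup Ω} {F : FusionSystem S} {p : ℕ}
  [Finite S] [Fact p.Prime]

/-- A quasisimple system lies in each of its weakly normal subsystems on the same group. -/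
theorem le_of_quasisimple (hS : IsPGroup p S) (hq : F.Quasisimple p) {D : FusionSystem S}
    (hD : D.IsWeaklyNormalIn F p) : F.IsSubsystemOf D := by
  obtain ⟨hF, -, hsimp⟩ := hq
  have hself := isWeaklyNormalIn_self hF
  have hspec := PrimeIndex.residual_spec hS hF
  set R := PrimeIndex.residual F p
  have hRn : R.IsNormalIn F p := WeaklyNormal.residual_normal hS hself hspec
  have hRD : R.IsSubsystemOf D := WeaklyNormal.residual_le hS hself hspec hD
  obtain ⟨hRs, -, hRinv⟩ := hRn.1
  set Z := F.center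
  have hZS : Z ≤ S := isCentral_center.1
  have hsc : ∀ {G : FusionSystem S}, G.IsSubsystemOf F → G.StronglyClosed Z := fun hG =>
    stronglyClosed_of_apply hZS fun P f hf x hx hxZ => by
      rw [apply_of_mem_center hxZ (CharSub.isMap_of_sub hG hf) hx]
      exact hxZ
  have hZF : F.StronglyClosed Z := hsc fun _ => Set.Subset.rfl
  have hZR : R.StronglyClosed Z := hsc hRinv.1
  set θ := QuotientGroup.mk' (Z.subgroupOf S)
  have hker : ∀ s : S, θ s = 1 ↔ (s : Ω) ∈ Z := fun s =>
    (QuotientGroup.eq_one_iff s).trans Subgroup.mem_subgroupOf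
  have hrange : θ.range = ⊤ := MonoidHom.range_eq_top.mpr (QuotientGroup.mk'_surjective _)
  obtain ⟨E, hE⟩ := exists_factor_of_range (kerClosed_of_stronglyClosed hZF hker) hZS hker hrange
  obtain ⟨E', hE'⟩ :=
    exists_factor_of_range (kerClosed_of_stronglyClosed hZR hker) hZS hker hrange
  have h := isQuot_of_isFactorSystem hZF hE
  have h' := isQuot_of_isFactorSystem hZR hE'
  haveI : Finite (⊤ : Subgroup (S ⧸ Z.subgroupOf S)) := finite_of_range hrange
  have hTp : IsPGroup p (⊤ : Subgroup (S ⧸ Z.subgroupOf S)) :=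
    (hS.to_quotient _).of_injective (Subgroup.subtype _) Subtype.val_injective
  obtain ⟨hEs, hne, hall⟩ := hsimp E hE
  -- the image of the residual is weakly normal
  have hsub : E'.IsSubsystemOf E := fun P φ hφ => by
    refine IsMap.mem_toFun' ?_
    obtain ⟨f, hf, e⟩ := h'.exists_lift (isMap_of_mem hφ)
    exact (h.iff _ _).mpr ⟨(E'.le_of_mem hφ).1, f, CharSub.isMap_of_sub hRinv.1 hf, e⟩
  have hX : StrongInv E' E := by
    intro P Q hPQ hQ f' hf' hfQ g' hg' k' hk
    obtain ⟨f, hf, ef⟩ := h'.exists_lift hf'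
    obtain ⟨g, hg, eg⟩ := h.exists_lift hg'
    have hPQ₀ : preimageAlong θ P ≤ preimageAlong θ Q := fun x hx =>
      mem_preimageAlong.mpr ⟨(mem_preimageAlong.mp hx).1, hPQ (mem_preimageAlong.mp hx).2⟩
    have hfm : ∀ x ∈ preimageAlong θ P, f x ∈ preimageAlong θ Q := fun x hx => by
      refine mem_preimageAlong.mpr ⟨hf.mem_S hx, ?_⟩
      rw [← ef x hx]
      exact hfQ _ (mem_preimageAlong.mp hx).2
    obtain ⟨d, hd, -, hdl, -⟩ := (hg.mono hPQ₀).exists_inv
    have h1 := strongInv_of_invariant hRinv _ _ hPQ₀ (preimageAlong_le _) f hf hfm g hg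
      (g ∘ (f ∘ d)) fun x hx => by
        show g (f (d (g x))) = g (f x)
        rw [hdl x hx]
    have hle : preimageAlong θ (img P g') ≤ img (preimageAlong θ P) g := by
      intro y hy
      obtain ⟨hyS, hyi⟩ := mem_preimageAlong.mp hy
      obtain ⟨x', hx', e'⟩ := (hg'.mono hPQ).mem_img.mp hyi
      obtain ⟨x, hx, rfl⟩ := exists_preimage (θ := θ) (hrange.symm ▸ le_top) hx'
      rw [eg x (hPQ₀ hx)] at e'
      have hgS := hg.mem_S (hPQ₀ hx)
      have hdZ : (g x)⁻¹ * y ∈ Z := by
        refine (hker ⟨_, S.mul_mem (S.inv_mem hgS) hyS⟩).mp ?_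
        rw [← qmap_apply (θ := θ), qmap_mul (S.inv_mem hgS) hyS, qmap_inv hgS, ← e',
          inv_mul_cancel]
      have hZP : Z ≤ preimageAlong θ P := fun z hz => mem_preimageAlong.mpr ⟨hZS hz, by
        rw [qmap_apply (hZS hz), (hker ⟨z, hZS hz⟩).mpr hz]; exact Subgroup.one_mem _⟩
      have hfix : g ((g x)⁻¹ * y) = (g x)⁻¹ * y :=
        apply_of_mem_center hdZ hg (hPQ₀ (hZP hdZ))
      have h2 : g (x * ((g x)⁻¹ * y)) = y := by
        rw [hg.map_mul (hPQ₀ hx) (hPQ₀ (hZP hdZ)), hfix]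
        group
      exact h2 ▸ IsMap.apply_mem_img (Subgroup.mul_mem _ hx (hZP hdZ))
    refine (h'.iff _ _).mpr ⟨le_top, g ∘ (f ∘ d), h1.mono hle, fun y hy => ?_⟩
    obtain ⟨x, hx, rfl⟩ := (hg.mono hPQ₀).mem_img.mp (hle hy)
    show k' (qmap θ (g x)) = qmap θ (g (f (d (g x))))
    rw [hdl x hx, ← eg x (hPQ₀ hx), hk _ (mem_preimageAlong.mp hx).2, ef x hx,
      eg _ (hfm x hx)]
  have hscE : E.StronglyClosed (⊤ : Subgroup (S ⧸ Z.subgroupOf S)) :=
    stronglyClosed_of_apply le_rfl fun _ _ _ _ _ _ => Subgroup.mem_top _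
  have hE'n : E'.IsWeaklyNormalIn E p :=
    ⟨h'.saturated hS hRs, hEs, (invariant_iff_strongInv hTp hEs hsub hscE).mpr hX⟩
  have hselfE := isWeaklyNormalIn_self hEs
  have hspecE := PrimeIndex.residual_spec hTp hEs
  have hEE' : E.IsSubsystemOf E' := fun P => by
    have hle := WeaklyNormal.residual_le hTp hselfE hspecE hE'n P
    rcases hall _ _ (WeaklyNormal.residual_normal hTp hselfE hspecE) with h0 | ⟨-, h2⟩
    · exact absurd h0 hne
    · rwa [h2 P] at hle
  -- automorphisms of the whole group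
  have htop : ∀ α ∈ F.autGroup S, α ∈ R.autGroup S := by
    intro α hα
    have hpre : preimageAlong θ (⊤ : Subgroup (S ⧸ Z.subgroupOf S)) = S :=
      le_antisymm (preimageAlong_le _) fun x hx =>
        mem_preimageAlong.mpr ⟨hx, Subgroup.mem_top _⟩
    have hαm := (isMap_autFun le_rfl).mpr hα
    have hαP : IsMap F (preimageAlong θ (⊤ : Subgroup (S ⧸ Z.subgroupOf S))) (autFun α) := by
      rw [hpre]; exact hαm
    have hm := h.isMap_pushMap (P' := ⊤) le_top hαP
    obtain ⟨g, hg, eg⟩ := h'.exists_lift (CharSub.isMap_of_sub hEE' hm)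
    rw [hpre] at hg eg
    obtain ⟨β, hβ, eβ⟩ :=
      hg.exists_aut (Subgroup.eq_of_le_of_card_ge hg.img_le hg.card_img.ge)
    have hβF : β ∈ F.autGroup S := autGroup_le hRinv.1 le_rfl hβ
    have heq : ∀ x ∈ S, qmap θ (autFun β x) = qmap θ (autFun α x) := fun x hx => by
      rw [eβ x hx, ← eg x hx]
      exact h.pushMap_apply (P' := ⊤) hαP (hpre.symm ▸ hx)
    set c := β⁻¹ * α
    have hc : c ∈ F.autGroup S := mul_mem (Subgroup.inv_mem _ hβF) hα
    have hcmod : ∀ x ∈ S, x⁻¹ * autFun c x ∈ Z := fun x hx => by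
      have ha := autFun_mem α hx
      have hb := autFun_mem β hx
      have hz : (autFun β x)⁻¹ * autFun α x ∈ Z := by
        refine (hker ⟨_, S.mul_mem (S.inv_mem hb) ha⟩).mp ?_
        rw [← qmap_apply (θ := θ), qmap_mul (S.inv_mem hb) ha, qmap_inv hb, heq x hx,
          inv_mul_cancel]
      have hi := (isMap_autFun (F := F) le_rfl).mpr (Subgroup.inv_mem _ hβF)
      have h1 := apply_of_mem_center hz hi (hZS hz)
      rw [hi.map_mul (S.inv_mem hb) ha, hi.map_inv hb, autFun_inv_apply' β hx] at h1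
      rw [show autFun c x = autFun β⁻¹ (autFun α x) from autFun_mul _ _ hx, h1]
      exact hz
    haveI : Finite (MulAut S) := NormCent.finite_mulAut S
    obtain ⟨m, hm⟩ := IsPGroup.iff_card.mp hS
    have hfixZ : ∀ z ∈ Z, autFun c z = z := fun z hz =>
      apply_of_mem_center hz ((isMap_autFun le_rfl).mpr hc) (hZS hz)
    have hcp : c ^ p ^ m = 1 := by
      rw [← hm]
      refine chain_pow_eq_one c (Z : Set Ω) (fun x hx => Subtype.ext ?_) (fun x => ?_)
        fun x => Subtype.ext ?_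
      · rw [← autFun_apply]; exact hfixZ x hx
      · show (x : Ω)⁻¹ * ((c x : S) : Ω) ∈ Z
        rw [← autFun_apply]; exact hcmod x x.2
      · exact congrArg Subtype.val (pow_card_eq_one' (x := x))
    have hcR : c ∈ R.autGroup S := by
      haveI : Fact p.Prime := inferInstance
      obtain ⟨i, -, hi⟩ := (Nat.dvd_prime_pow (Fact.out : p.Prime)).1
        (orderOf_dvd_of_pow_eq_one hcp)
      haveI : Finite (normalizerIn S S) := finite_of_le inf_le_left
      obtain ⟨χ, hχ, hχc⟩ := exists_conj_into_autS (fullyNormalized_props hS hF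
        (⟨le_rfl, fun Q hQ => Subgroup.card_le_of_le (inf_le_inf_left S
          (le_of_eq (by rw [Subgroup.eq_of_le_of_card_ge (isConj_le hQ).2 (isConj_card hQ).ge])))⟩ :
          F.IsFullyNormalized S)).2.1 (IsPGroup.of_card (n := i) ((Nat.card_zpowers c).trans hi))
        (Subgroup.zpowers_le.mpr hc)
      have h1 : χ * c * χ⁻¹ ∈ R.autGroup S :=
        autInducedBy_le le_rfl (hχc c (Subgroup.mem_zpowers c))
      have hχm := (isMap_autFun (F := F) le_rfl).mpr (Subgroup.inv_mem _ hχ)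
      have h2 := NormCent.congr_mem_sub hRinv le_rfl hχm (img_autFun _) h1
      convert h2 using 1
      refine NFam.eq_of_autFun fun y hy => ?_
      obtain ⟨x, hx, rfl⟩ : ∃ x ∈ S, autFun χ⁻¹ x = y :=
        ⟨_, autFun_mem χ hy, autFun_inv_apply' χ hy⟩
      rw [congr_equiv_spec hχm (img_autFun _) _ hx, ← autFun_mul _ _ hx, ← autFun_mul _ _ hx,
        show χ⁻¹ * (χ * c * χ⁻¹) = c * χ⁻¹ by group]
    have := mul_mem hβ hcR
    rwa [mul_inv_cancel_left] at this
  intro P φ hφ
  refine IsMap.mem_toFun' ?_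
  obtain ⟨δ, hδ, f₀, hf₀, hG, he⟩ :=
    PrimeIndex.factor (p := p) hS hF PrimeIndex.siteFam_centrics (isMap_of_mem hφ)
  have hfR := PrimeIndex.isMap_sub_gen (PrimeIndex.forcedAut_le (p := p))
    PrimeIndex.siteFam_centrics hf₀ hG
  exact CharSub.isMap_of_sub hRD ((hfR.comp ((isMap_autFun le_rfl).mpr (htop δ hδ))
    fun x hx => hf₀.mem_S hx).congr he)

end Cfsg.Lib.Fusion.Layer
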